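import Cfsg.Agent.Lib.M12Eight.Data
import Cfsg.Agent.Lib.G2Sylow.Model

/-!
Kernel checks: the searches, the parameter choices, the identification with the wreath model.
-/

set_option autoImplicit false
set_option maxRecDepth 100000
set_option maxHeartbeats 4000000
set_option Elab.async false

namespace CfsgM12Eight

/-- The table of a choice. -/
def tabOf (k : ℕ) : ℕ := tabs.getD k 0

theorem kill1 : kills tab1 nc1 cp1 = true := by decide +kernel
theorem kill2 : kills tab2 nc2 cp2 = true := by decide +kernel
theorem kill3 : kills tab3 nc3 cp3 = true := by decide +kernel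
theorem kill4 : kills tab4 nc4 cp4 = true := by decide +kernel
theorem kill5 : kills tab5 nc5 cp5 = true := by decide +kernel
theorem kill6 : kills tab6 nc6 cp6 = true := by decide +kernel

/-- The conditions on the parameters. -/
def validA (u A : ℕ) : Bool := Nat.beq (mulN u A A) 0 && Nat.beq (mulN u (mulN u A 5) A) (powN u 5 3)

/-- The conditions on the parameters. -/
def validB (u B : ℕ) : Bool := Nat.beq (mulN u B B) 0 && Nat.beq (mulN u (mulN u B 5) B) (powN u 5 5)

/-- The conditions on the parameters. -/
def validN (u A B n0 : ℕ) : Bool :=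
  Nat.beq (alN u A B n0) n0 && [4, 2, 1].all fun g =>
    Nat.beq (mulN u (alN u A B (alN u A B g)) n0) (mulN u n0 g)

theorem choices_complete : ([0, 4].all fun u => (List.range 32).all fun A => !validA u A ||
    (List.range 32).all fun B => !validB u B || !(Nat.beq (mulN u B A) (mulN u (mulN u (powN u 5 u) A) B)) ||
      (List.range 32).all fun n0 => !validN u A B n0 ||
        choices.any fun c => Nat.beq c.u u && Nat.beq c.A A && Nat.beq c.B B && Nat.beq c.n0 n0) = true := by
  decide +kernel

/-- A choice is isomorphic to its table. -/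
noncomputable def isoOK (c : Choice) : Bool :=
  Nat.blt c.k 7 && ((List.range 64).all fun z => (List.range 64).any fun y => Nat.beq (c.cd y) z) &&
    (List.range 64).all fun y => (List.range 64).all fun z =>
      CfsgLib.CosetEnum.force (mulT (tabOf c.k) y z) fun v =>
        Nat.beq (c.cd v) (mulP c.u c.A c.B c.n0 (c.cd y) (c.cd z))

theorem choices_iso : choices.all isoOK = true := by decide +kernel

theorem norm_move : ([0, 4].all fun u => (List.range 32).all fun c =>
    Nat.beq (c % 4) 0 || Nat.beq (powN u c 4) 0 || (List.range 32).any fun n => [1, 3, 5, 7].any fun k =>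
      Nat.beq (mulN u n (powN u c k)) (mulN u 5 n)) = true := by decide +kernel

/-- The code in table 0 of an element of the wreath model. -/
def wIdx (w : CfsgLib.G2Sylow.W 4) : ℕ :=
  (wcode >>> (6 * (16 * w.i.val + 4 * w.j.val + 2 * w.e.toNat + w.s.toNat))) % 64

theorem wIdx_hom : ∀ v w : CfsgLib.G2Sylow.W 4, wIdx (v * w) = mulT tab0 (wIdx v) (wIdx w) := by decide +kernel

theorem wIdx_inj : ∀ v w : CfsgLib.G2Sylow.W 4, wIdx v = wIdx w → v = w := by decide +kernel

end CfsgM12Eight
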