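import Cfsg.Agent.Lib.CosetEnum.Basic

/-!
Codes for the groups of order 64 with a self-centralizing element of order 8 conjugate to its odd powers: products
from a table, certified searches, and the parameters of an extension.

An element of the normalizer of the element `f` is coded `4i + 2p + q` for `f ^ i * a ^ p * b ^ q`; the other coset
adds 32.
-/

set_option autoImplicit false

namespace CfsgM12Eight

open CfsgLib.CosetEnum (force)

/-- The product from a table. -/
noncomputable def mulT (T x y : ℕ) : ℕ := Nat.mod (Nat.shiftRight T (Nat.mul (nat_lit 6) (Nat.add (Nat.mul (nat_lit 64) x) y))) (nat_lit 64)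

/-- The value of a word. -/
noncomputable def evT (T : ℕ) (w im : List ℕ) : ℕ :=
  w.foldl (fun a i => force (im.getD i 0) fun v => force a fun a => mulT T a v) 0

/-- The tests answer alike on two lists. -/
noncomputable def okT (T : ℕ) (gs im : List ℕ) (ts : List (List ℕ × List ℕ)) : Bool :=
  ts.all fun p => (Nat.beq (evT T p.1 gs) (evT T p.2 gs)) == (Nat.beq (evT T p.1 im) (evT T p.2 im))

/-- A search: generators of a centralizer, tests by level, words for the leaves. -/
structure Fact where
  /-- generators, the centralized element first -/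
  gs : List ℕ
  /-- tests of each level -/
  lev : List (List (List ℕ × List ℕ))
  /-- words -/
  W : List (List ℕ)

/-- The search. -/
noncomputable def srchT (T : ℕ) (gs : List ℕ) (fin : List ℕ → Bool) : List (List (List ℕ × List ℕ)) → List ℕ → Bool
  | [], im => fin im
  | ts :: rest, im => (List.range 64).all fun h => force h fun h =>
      !okT T gs (im ++ [h]) ts || srchT T gs fin rest (im ++ [h])

/-- All leaves of a fact pass. -/
noncomputable def Fact.check (F : Fact) (T : ℕ) (fin : List ℕ → Bool) : Bool :=
  F.gs.all (fun h => Nat.blt h 64 && Nat.beq (mulT T h (F.gs.getD 0 0)) (mulT T (F.gs.getD 0 0) h)) &&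
    Nat.beq F.gs.length (F.lev.length + 1) &&
    (F.lev.zipIdx.all fun p => p.1.all fun t => (t.1 ++ t.2).all fun i => Nat.blt i (p.2 + 2)) &&
    srchT T F.gs fin F.lev [16]

/-- An element is conjugate in the group of the table to another. -/
noncomputable def cjd (T y x : ℕ) : Bool :=
  force y fun y => (List.range 64).any fun s => force s fun s => Nat.beq (mulT T y s) (mulT T s x)

/-- An involution that cannot be fused to the central one. -/
noncomputable def noB (T : ℕ) (nc : List Fact) (v : ℕ) : Bool := nc.any fun F => cjd T v (F.gs.getD 0 0)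

/-- An element fused to the central involution when `x` is. -/
noncomputable def yesB (T x v : ℕ) : Bool := Nat.beq v 16 || cjd T v x

/-- The leaf test. -/
noncomputable def clash (T : ℕ) (nc : List Fact) (F : Fact) (im : List ℕ) : Bool :=
  F.W.any fun w => force (evT T w F.gs) fun a => force (evT T w im) fun b =>
    (yesB T (F.gs.getD 0 0) a && noB T nc b) || (yesB T (F.gs.getD 0 0) b && noB T nc a)

/-- The central involution of the table is isolated. -/
noncomputable def kills (T : ℕ) (nc cp : List Fact) : Bool :=
  Nat.beq (mulT T 0 0) 0 && Nat.beq (mulT T 16 16) 0 &&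
    ((List.range 64).all fun x => Nat.beq (mulT T x 16) (mulT T 16 x)) &&
    ((List.range 64).all fun x => force x fun x => !(Nat.beq (mulT T x x) 0) || Nat.beq x 0 || Nat.beq x 16 ||
      (nc ++ cp).any fun F => cjd T x (F.gs.getD 0 0)) &&
    nc.all (fun F => F.check T fun _ => false) && cp.all (fun F => F.check T (clash T nc F) &&
      F.W.all fun w => w.all fun i => Nat.blt i F.gs.length)

/-- Powers of five modulo eight. -/
def p5 (q : ℕ) : ℕ := if Nat.beq q 0 then 1 else 5

/-- Powers of three modulo eight. -/
def p3 (p : ℕ) : ℕ := if Nat.beq p 0 then 1 else 3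

/-- The product in the normalizer. -/
def mulN (u x y : ℕ) : ℕ :=
  ((x / 4 + y / 4 * p5 (x % 2) * p3 (x / 2 % 2) + u * p3 (x / 2 % 2) * (x % 2 * (y / 2 % 2))) % 8) * 4 +
    (x / 2 % 2 + y / 2 % 2) % 2 * 2 + (x % 2 + y % 2) % 2

/-- A power in the normalizer. -/
def powN (u x : ℕ) : ℕ → ℕ
  | 0 => 0
  | k + 1 => mulN u (powN u x k) x

/-- The automorphism given by the outer element. -/
def alN (u A B m : ℕ) : ℕ :=
  mulN u (mulN u (powN u 5 (m / 4)) (powN u A (m / 2 % 2))) (powN u B (m % 2))

/-- The product in the extension. -/
def mulP (u A B n0 x y : ℕ) : ℕ :=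
  if x < 32 then
    if y < 32 then mulN u x y else mulN u x (y - 32) + 32
  else
    if y < 32 then mulN u (x - 32) (alN u A B y) + 32
    else mulN u (mulN u (x - 32) (alN u A B (y - 32))) n0

/-- A parameter choice: the table it gives and the codes of the table's elements. -/
structure Choice where
  /-- the commutator exponent -/
  u : ℕ
  /-- the image of the first involution -/
  A : ℕ
  /-- the image of the second involution -/
  B : ℕ
  /-- the square of the outer element -/
  n0 : ℕ
  /-- the table -/
  k : ℕ
  /-- the coordinates -/
  h : ℕ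

/-- The code of a table element. -/
noncomputable def Choice.cd (c : Choice) (y : ℕ) : ℕ := Nat.mod (Nat.shiftRight c.h (Nat.mul (nat_lit 6) y)) (nat_lit 64)

end CfsgM12Eight
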