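import Cfsg.Agent.Lib.M12Eight.Code
import Cfsg.Agent.S0215
import Mathlib.GroupTheory.SpecificGroups.Cyclic

/-!
The meaning of the searches: a certified table leaves the central involution isolated, which no simple group allows.
-/

set_option autoImplicit false

namespace CfsgM12Eight

open Subgroup CfsgLib.CosetEnum

theorem force_eq {α : Type} (i : ℕ) (k : ℕ → α) : force i k = k i := by cases i <;> rfl

theorem mulT_lt (T x y : ℕ) : mulT T x y < 64 := Nat.mod_lt _ (by norm_num)

/-- A Sylow subgroup with coordinates in a table. -/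
structure Coded (G : Type*) [Group G] where
  /-- the subgroup -/
  P : Sylow 2 G
  /-- the table -/
  T : ℕ
  /-- the elements -/
  e : ℕ → G
  mem : ∀ {x : ℕ}, x < 64 → e x ∈ (P : Subgroup G)
  surj : ∀ {g : G}, g ∈ (P : Subgroup G) → ∃ x < 64, e x = g
  inj : ∀ {x y : ℕ}, x < 64 → y < 64 → e x = e y → x = y
  map_mul : ∀ {x y : ℕ}, x < 64 → y < 64 → e (mulT T x y) = e x * e y

namespace Coded

variable {G : Type*} [Group G] (K : Coded G)

theorem map_zero (h : mulT K.T 0 0 = 0) : K.e 0 = 1 := by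
  have := K.map_mul (x := 0) (y := 0) (by norm_num) (by norm_num)
  rwa [h, left_eq_mul] at this

/-- The product named by a word. -/
def wval (im : List ℕ) (w : List ℕ) : G := (w.map fun i => K.e (im.getD i 0)).prod

theorem e_evT (h0 : mulT K.T 0 0 = 0) {im : List ℕ} (him : ∀ i ∈ im, i < 64) :
    ∀ w : List ℕ, K.e (evT K.T w im) = K.wval im w ∧ evT K.T w im < 64 := by
  have hget : ∀ i, im.getD i 0 < 64 := fun i => by
    rcases lt_or_ge i im.length with h | h
    · rw [List.getD_eq_getElem _ _ h]; exact him _ (List.getElem_mem h)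
    · rw [List.getD_eq_default _ _ h]; norm_num
  suffices ∀ (w : List ℕ) (a : ℕ), a < 64 →
      K.e (w.foldl (fun a i => force (im.getD i 0) fun v => force a fun a => mulT K.T a v) a) = K.e a * K.wval im w ∧
        (w.foldl (fun a i => force (im.getD i 0) fun v => force a fun a => mulT K.T a v) a) < 64 by
    intro w
    have h := this w 0 (by norm_num)
    rw [K.map_zero h0, one_mul] at h
    exact h
  intro w
  induction w with
  | nil => intro a ha; simpa [wval] using ha
  | cons i w ih =>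
    intro a ha
    simp only [List.foldl_cons, force_eq] at ih ⊢
    obtain ⟨h1, h2⟩ := ih (mulT K.T a (im.getD i 0)) (mulT_lt _ _ _)
    refine ⟨?_, h2⟩
    rw [h1, K.map_mul ha (hget i)]
    simp [wval, mul_assoc]

theorem wval_congr {g : G} {gs im : List ℕ} {w : List ℕ}
    (h : ∀ i ∈ w, g * K.e (gs.getD i 0) * g⁻¹ = K.e (im.getD i 0)) : K.wval im w = g * K.wval gs w * g⁻¹ := by
  induction w with
  | nil => simp [wval]
  | cons i w ih =>
    have := ih fun j hj => h j (List.mem_cons_of_mem _ hj)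
    simp only [wval, List.map_cons, List.prod_cons] at this ⊢
    rw [this, ← h i List.mem_cons_self]
    group

/-- The search finds the images under a conjugation. -/
theorem srch_sound (h0 : mulT K.T 0 0 = 0) {g : G} {gs imF : List ℕ} {fin : List ℕ → Bool}
    (hgs : ∀ i ∈ gs, i < 64) (him : ∀ i ∈ imF, i < 64)
    (hfit : ∀ i < imF.length, g * K.e (gs.getD i 0) * g⁻¹ = K.e (imF.getD i 0)) :
    ∀ (lev : List (List (List ℕ × List ℕ))) (j : ℕ), j + 1 + lev.length = imF.length →
      (∀ p ∈ lev.zipIdx j, ∀ t ∈ p.1, ∀ i ∈ t.1 ++ t.2, i < p.2 + 2) →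
      srchT K.T gs fin lev (imF.take (j + 1)) = true → fin imF = true := by
  intro lev
  induction lev with
  | nil =>
    intro j hj _ h
    rwa [srchT, List.take_of_length_le (by simp at hj; omega)] at h
  | cons ts rest ih =>
    intro j hj hw h
    have hlen : j + 1 < imF.length := by simp at hj; omega
    rw [srchT, List.all_eq_true] at h
    have h1 := h imF[j + 1] (List.mem_range.mpr (him _ (List.getElem_mem hlen)))
    rw [force_eq, ← List.take_succ_eq_append_getElem hlen, Bool.or_eq_true] at h1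
    refine ih (j + 1) (by simp at hj; omega) (fun p hp => hw p (by simp [List.zipIdx_cons, hp])) (h1.resolve_left ?_)
    rw [Bool.not_eq_true', Bool.not_eq_false, okT, List.all_eq_true]
    intro t ht
    have him' : ∀ i ∈ imF.take (j + 1 + 1), i < 64 := fun i hi => him i (List.mem_of_mem_take hi)
    have key : ∀ w : List ℕ, (∀ i ∈ w, i < j + 2) →
        K.e (evT K.T w (imF.take (j + 1 + 1))) = g * K.e (evT K.T w gs) * g⁻¹ := fun w hw' => by
      rw [(K.e_evT h0 him' w).1, (K.e_evT h0 hgs w).1]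
      refine K.wval_congr fun i hi => ?_
      have hi2 := hw' i hi
      rw [hfit i (by omega), List.getD_eq_getElem _ _ (by omega : i < imF.length),
        List.getD_eq_getElem _ _ (by simp; omega), List.getElem_take]
    have hts := hw (ts, j) (by simp [List.zipIdx_cons]) t ht
    rw [beq_iff_eq, Bool.eq_iff_iff, Nat.beq_eq, Nat.beq_eq]
    have ha := key t.1 fun i hi => hts i (List.mem_append_left _ hi)
    have hb := key t.2 fun i hi => hts i (List.mem_append_right _ hi)
    constructor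
    · intro e
      exact K.inj (K.e_evT h0 him' _).2 (K.e_evT h0 him' _).2 (by rw [ha, hb, e])
    · intro e
      refine K.inj (K.e_evT h0 hgs _).2 (K.e_evT h0 hgs _).2 ?_
      have := congrArg K.e e
      rw [ha, hb] at this
      exact mul_left_cancel (mul_right_cancel this)

theorem isConj_of_cjd {y x : ℕ} (hy : y < 64) (hx : x < 64) (h : cjd K.T y x = true) :
    IsConj (K.e x) (K.e y) := by
  rw [cjd, force_eq, List.any_eq_true] at h
  obtain ⟨s, hs, h⟩ := h
  rw [force_eq, Nat.beq_eq] at h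
  rw [List.mem_range] at hs
  refine isConj_iff.mpr ⟨K.e s, ?_⟩
  rw [mul_inv_eq_iff_eq_mul, ← K.map_mul hy hs, h, K.map_mul hs hx]

variable [Finite G]

/-- A conjugation to the central involution can be chosen to carry the centralizer into the subgroup. -/
theorem move (hz : ∀ s ∈ (K.P : Subgroup G), Commute s (K.e 16)) {x : G} {g : G}
    (hg : g * x * g⁻¹ = K.e 16) :
    ∃ g' : G, g' * x * g'⁻¹ = K.e 16 ∧
      ∀ q ∈ (K.P : Subgroup G), Commute q x → g' * q * g'⁻¹ ∈ (K.P : Subgroup G) := by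
  haveI : _root_.Fact (Nat.Prime 2) := ⟨Nat.prime_two⟩
  set C : Subgroup G := centralizer ({K.e 16} : Set G)
  have hPC : (K.P : Subgroup G) ≤ C := fun s hs => mem_centralizer_singleton_iff.mpr (hz s hs).eq
  set Q : Subgroup G := ((K.P : Subgroup G) ⊓ centralizer ({x} : Set G)).map (MulAut.conj g).toMonoidHom
  have hQ : IsPGroup 2 Q := (K.P.isPGroup'.to_le inf_le_left).map _
  have hQC : Q ≤ C := by
    rintro _ ⟨q, ⟨-, hq⟩, rfl⟩
    refine mem_centralizer_singleton_iff.mpr ?_
    have hq' : Commute q x := mem_centralizer_singleton_iff.mp hq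
    rw [← hg]
    show g * q * g⁻¹ * (g * x * g⁻¹) = g * x * g⁻¹ * (g * q * g⁻¹)
    calc g * q * g⁻¹ * (g * x * g⁻¹) = g * (q * x) * g⁻¹ := by group
      _ = g * (x * q) * g⁻¹ := by rw [hq'.eq]
      _ = _ := by group
  obtain ⟨R, hR⟩ := (hQ.of_equiv (subgroupOfEquivOfLe hQC).symm).exists_le_sylow
  obtain ⟨c, hc⟩ := MulAction.exists_smul_eq C R (K.P.subtype hPC)
  refine ⟨c * g, ?_, fun q hq hqx => ?_⟩
  · rw [show (c : G) * g * x * ((c : G) * g)⁻¹ = c * (g * x * g⁻¹) * (c : G)⁻¹ by group, hg,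
      mul_inv_eq_iff_eq_mul]
    exact mem_centralizer_singleton_iff.mp c.2
  · have hm : g * q * g⁻¹ ∈ Q := ⟨q, ⟨hq, mem_centralizer_singleton_iff.mpr hqx.eq⟩, rfl⟩
    have h2 : c * ⟨_, hQC hm⟩ * c⁻¹ ∈ ((c • R : Sylow 2 C) : Subgroup C) := by
      rw [Sylow.smul_def, Sylow.pointwise_smul_def]
      exact ⟨_, hR (mem_subgroupOf.mpr hm), rfl⟩
    rw [hc] at h2
    rw [show (c : G) * g * q * ((c : G) * g)⁻¹ = c * (g * q * g⁻¹) * (c : G)⁻¹ by group]
    exact h2

/-- A fact gives a leaf. -/
theorem fact_sound (h0 : mulT K.T 0 0 = 0) (hz : ∀ s ∈ (K.P : Subgroup G), Commute s (K.e 16)) {F : Fact}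
    {fin : List ℕ → Bool} (hF : F.check K.T fin = true) (hconj : IsConj (K.e (F.gs.getD 0 0)) (K.e 16)) :
    ∃ (g : G) (im : List ℕ), fin im = true ∧ (∀ i ∈ im, i < 64) ∧ (∀ i ∈ F.gs, i < 64) ∧
      g * K.e (F.gs.getD 0 0) * g⁻¹ = K.e 16 ∧
      ∀ i < F.gs.length, g * K.e (F.gs.getD i 0) * g⁻¹ = K.e (im.getD i 0) := by
  simp only [Fact.check, Bool.and_eq_true, List.all_eq_true, Nat.beq_eq, Nat.blt_eq] at hF
  obtain ⟨⟨⟨hgs, hlen⟩, hw⟩, hs⟩ := hF
  obtain ⟨g, hg⟩ := isConj_iff.mp hconj
  obtain ⟨g', hg', hmove⟩ := K.move hz hg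
  have hgs64 : ∀ i ∈ F.gs, i < 64 := fun i hi => (hgs i hi).1
  have hx : F.gs.getD 0 0 ∈ F.gs := by
    rw [List.getD_eq_getElem _ _ (by omega)]
    exact List.getElem_mem _
  have hcode : ∀ i < F.gs.length, ∃ v < 64, K.e v = g' * K.e (F.gs.getD i 0) * g'⁻¹ := fun i hi => by
    have hi' : F.gs.getD i 0 ∈ F.gs := by
      rw [List.getD_eq_getElem _ _ hi]
      exact List.getElem_mem _
    refine K.surj (hmove _ (K.mem (hgs64 _ hi')) ?_)
    show _ = _
    rw [← K.map_mul (hgs64 _ hi') (hgs64 _ hx), (hgs _ hi').2, K.map_mul (hgs64 _ hx) (hgs64 _ hi')]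
  choose! v hv hve using hcode
  set imF := (List.range F.gs.length).map fun i => if i = 0 then 16 else v i
  have hget : ∀ i < F.gs.length, imF.getD i 0 = if i = 0 then 16 else v i := fun i hi => by
    rw [List.getD_eq_getElem _ _ (by simpa [imF] using hi)]
    simp [imF]
  have him : ∀ i ∈ imF, i < 64 := by
    intro i hi
    obtain ⟨k, hk, rfl⟩ := List.mem_map.mp hi
    split
    · norm_num
    · exact hv k (List.mem_range.mp hk)
  have hfit : ∀ i < F.gs.length, g' * K.e (F.gs.getD i 0) * g'⁻¹ = K.e (imF.getD i 0) := fun i hi => by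
    rw [hget i hi]
    split
    · next h => rw [h, hg']
    · rw [hve i hi]
  refine ⟨g', imF, K.srch_sound h0 hgs64 him (fun i hi => hfit i (by simpa [imF] using hi)) F.lev 0
    (by simp [imF]; omega) (fun p hp => hw p (by simpa using hp)) ?_, him, hgs64, hg', hfit⟩
  have h16 : imF.take 1 = [16] := by
    have hpos : 0 < imF.length := by simp [imF]; omega
    rw [List.take_succ_eq_append_getElem hpos]
    simp [imF]
  rwa [h16]

/-- The certified table isolates the central involution. -/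
theorem isolated {nc cp : List Fact} (hk : kills K.T nc cp = true) :
    orderOf (K.e 16) = 2 ∧ ∀ g : G, g * K.e 16 * g⁻¹ ∈ (K.P : Subgroup G) → g * K.e 16 * g⁻¹ = K.e 16 := by
  simp only [kills, Bool.and_eq_true, List.all_eq_true, Nat.beq_eq, List.mem_range] at hk
  obtain ⟨⟨⟨⟨⟨h0, h16⟩, hcen⟩, hinv⟩, hnc⟩, hcp⟩ := hk
  have e0 := K.map_zero h0
  have hz : ∀ s ∈ (K.P : Subgroup G), Commute s (K.e 16) := fun s hs => by
    obtain ⟨x, hx, rfl⟩ := K.surj hs
    show _ = _
    rw [← K.map_mul hx (by norm_num), hcen x hx, K.map_mul (by norm_num) hx]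
  have ho : orderOf (K.e 16) = 2 := by
    refine orderOf_eq_prime ?_ fun h => absurd (K.inj (by norm_num) (by norm_num) (h.trans e0.symm)) (by norm_num)
    rw [pow_two, ← K.map_mul (by norm_num) (by norm_num), h16, e0]
  have hno : ∀ F ∈ nc, ¬ IsConj (K.e (F.gs.getD 0 0)) (K.e 16) := fun F hF hc => by
    obtain ⟨_, _, h, -⟩ := K.fact_sound h0 hz (hnc F hF) hc
    exact Bool.false_ne_true h
  have hcp' : ∀ F ∈ cp, ¬ IsConj (K.e (F.gs.getD 0 0)) (K.e 16) := fun F hF hc => by
    obtain ⟨hchk, hW⟩ := hcp F hF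
    obtain ⟨g, im, hcl, him, hgs, hg, hfit⟩ := K.fact_sound h0 hz hchk hc
    simp only [clash, List.any_eq_true, force_eq] at hcl
    obtain ⟨w, hw, hcl⟩ := hcl
    have hwl : ∀ i ∈ w, i < F.gs.length := fun i hi => Nat.blt_eq.mp (hW w hw i hi)
    obtain ⟨ea, la⟩ := K.e_evT h0 hgs w
    obtain ⟨eb, lb⟩ := K.e_evT h0 him w
    have hab : IsConj (K.e (evT K.T w F.gs)) (K.e (evT K.T w im)) :=
      isConj_iff.mpr ⟨g, by rw [ea, eb, K.wval_congr fun i hi => hfit i (hwl i hi)]⟩
    have hx64 : F.gs.getD 0 0 < 64 := by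
      rcases lt_or_ge 0 F.gs.length with h | h
      · rw [List.getD_eq_getElem _ _ h]; exact hgs _ (List.getElem_mem h)
      · rw [List.getD_eq_default _ _ h]; norm_num
    have hy : ∀ a < 64, yesB K.T (F.gs.getD 0 0) a = true → IsConj (K.e a) (K.e 16) := fun a ha h => by
      rw [yesB, Bool.or_eq_true, Nat.beq_eq] at h
      rcases h with rfl | h
      · exact IsConj.refl _
      · exact (K.isConj_of_cjd ha hx64 h).symm.trans hc
    have hn : ∀ a < 64, noB K.T nc a = true → ¬ IsConj (K.e a) (K.e 16) := fun a ha h => by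
      rw [noB, List.any_eq_true] at h
      obtain ⟨F', hF', h⟩ := h
      have hF64 : F'.gs.getD 0 0 < 64 := by
        have hch := hnc F' hF'
        simp only [Fact.check, Bool.and_eq_true, List.all_eq_true, Nat.beq_eq, Nat.blt_eq] at hch
        rw [List.getD_eq_getElem _ _ (by omega)]
        exact (hch.1.1.1 _ (List.getElem_mem _)).1
      exact fun hca => hno F' hF' ((K.isConj_of_cjd ha hF64 h).trans hca)
    rw [Bool.or_eq_true, Bool.and_eq_true, Bool.and_eq_true] at hcl
    rcases hcl with ⟨h1, h2⟩ | ⟨h1, h2⟩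
    · exact hn _ lb h2 (hab.symm.trans (hy _ la h1))
    · exact hn _ la h2 (hab.trans (hy _ lb h1))
  refine ⟨ho, fun g hg => ?_⟩
  obtain ⟨x, hx, ex⟩ := K.surj hg
  have hc : IsConj (K.e x) (K.e 16) := (isConj_iff.mpr ⟨g, ex.symm⟩ : IsConj (K.e 16) (K.e x)).symm
  have hox : orderOf (K.e x) = 2 := by rw [ex, ← ho]; exact (MulAut.conj g).orderOf_eq _
  have hx0 : x ≠ 0 := fun h => by rw [h, e0, orderOf_one] at hox; norm_num at hox
  have hxx : mulT K.T x x = 0 := K.inj (mulT_lt _ _ _) (by norm_num) (by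
    rw [K.map_mul hx hx, e0, ← pow_two, ← hox, pow_orderOf_eq_one])
  have h := hinv x hx
  simp only [force_eq, Bool.or_eq_true, Bool.not_eq_true', Nat.beq_eq, List.any_eq_true] at h
  rcases h with ((h | h) | h) | ⟨F, hF, h⟩
  · simp [hxx] at h
  · exact absurd h hx0
  · rw [← ex, h]
  · have hF64 : F.gs.getD 0 0 < 64 := by
      have hch : ∃ fin, F.check K.T fin = true := by
        rcases List.mem_append.mp hF with h' | h'
        · exact ⟨_, hnc F h'⟩
        · exact ⟨_, (hcp F h').1⟩
      obtain ⟨fin, hch⟩ := hch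
      simp only [Fact.check, Bool.and_eq_true, List.all_eq_true, Nat.beq_eq, Nat.blt_eq] at hch
      rw [List.getD_eq_getElem _ _ (by omega)]
      exact (hch.1.1.1 _ (List.getElem_mem _)).1
    have := (K.isConj_of_cjd hx hF64 h).trans hc
    rcases List.mem_append.mp hF with h' | h'
    · exact absurd this (hno F h')
    · exact absurd this (hcp' F h')

/-- No simple group has such a Sylow subgroup. -/
theorem no_simple [IsSimpleGroup G] (hna : ¬ IsMulCommutative G) {nc cp : List Fact}
    (hk : kills K.T nc cp = true) : False := by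
  obtain ⟨ho, hiso⟩ := K.isolated hk
  obtain ⟨N, hN, hodd, hcomm⟩ := Cfsg.Agent.S0215.result K.P (K.e 16) ho (K.mem (by norm_num)) hiso
  haveI := hN
  have hN1 : N = ⊥ := by
    refine (IsSimpleGroup.eq_bot_or_eq_top_of_normal N hN).resolve_right fun h => ?_
    rw [h, card_top] at hodd
    exact (Nat.not_even_iff_odd.mpr hodd) (even_iff_two_dvd.mpr (ho ▸ orderOf_dvd_natCard (K.e 16)))
  have hzc : K.e 16 ∈ center G := mem_center_iff.mpr fun g => by
    have := hcomm g
    rw [hN1, mem_bot, mul_inv_eq_one, mul_inv_eq_iff_eq_mul] at this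
    exact this.symm
  rcases IsSimpleGroup.eq_bot_or_eq_top_of_normal (center G) inferInstance with h | h
  · rw [h, mem_bot] at hzc
    simp [hzc] at ho
  · exact hna ⟨⟨fun a b => (mem_center_iff.mp (h ▸ mem_top b : b ∈ center G)) a⟩⟩

end Coded

end CfsgM12Eight
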