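import Cfsg.Agent.Lib.M12Eight.Structure
import Cfsg.Agent.Lib.M12Sylow.Model
import Cfsg.Agent.Lib.M12Sylow.Core
import Cfsg.Agent.Lib.M12Sylow.CoreFree

/-!
Simple groups with a Sylow subgroup of order 64 containing a self-centralizing element of order 8 conjugate to its
generators.
-/

set_option autoImplicit false
set_option linter.style.haveILetI false

namespace CfsgM12Eight

open Subgroup CfsgLib.G2Sylow CfsgLib.M12Sylow

theorem wIdx_lt (w : W 4) : wIdx w < 64 := Nat.mod_lt _ (by norm_num)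

variable {G : Type*} [Group G] [Finite G]

/-- The table zero gives the group of degree twelve. -/
theorem m12_of_tab0 [hG : IsSimpleGroup G] (K : Coded G) (hT : K.T = tab0)
    (hP : Nat.card (K.P : Subgroup G) = 64) (h2 : ∃ x y : G, orderOf x = 2 ∧ orderOf y = 2 ∧ ¬ IsConj x y) :
    Nonempty (G ≃* Cfsg.Spor.M12) := by
  let ι : W 4 →* G := MonoidHom.mk' (fun w => K.e (wIdx w)) fun v w => by
    show K.e (wIdx (v * w)) = K.e (wIdx v) * K.e (wIdx w)
    rw [wIdx_hom, ← hT, K.map_mul (wIdx_lt v) (wIdx_lt w)]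
  have hinj : Function.Injective ι := fun v w h => wIdx_inj v w (K.inj (wIdx_lt v) (wIdx_lt w) h)
  have hrange : ι.range = (K.P : Subgroup G) := by
    refine eq_of_le_of_card_ge ?_ ?_
    · rintro _ ⟨w, rfl⟩
      exact K.mem (wIdx_lt w)
    · rw [hP, ← Nat.card_congr (MonoidHom.ofInjective hinj).toEquiv, CfsgLib.G2Sylow.card_W]
      norm_num
  have htwo : ¬ IsConj (ι swp) (ι zz) := by
    intro hconj
    obtain ⟨x, y, hx, hy, hxy⟩ := h2
    have key : ∀ w : G, orderOf w = 2 → IsConj w (ι zz) := fun w hw => by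
      rcases CfsgLib.G2Sylow.two_classes (h := 2) (by norm_num) (by decide) le_rfl K.P ι hinj hrange w hw with h | h
      · exact h
      · exact h.trans hconj
    exact hxy ((key x hx).trans (key y hy).symm)
  obtain ⟨D⟩ := exists_frame (⟨hG, K.P, ι, hinj, hrange, htwo⟩ : Amb G)
  exact D.m12_of_core_bot D.core_bot

/-- The theorem. -/
theorem main [IsSimpleGroup G] (hna : ¬ IsMulCommutative G) (P : Sylow 2 G)
    (hP : Nat.card (P : Subgroup G) = 64) (f : G) (hfP : f ∈ (P : Subgroup G)) (hf : orderOf f = 8)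
    (hself : ∀ x ∈ (P : Subgroup G), x * f = f * x → x ∈ zpowers f)
    (hodd : ∀ k ∈ ({3, 5, 7} : Set ℕ), ∃ x ∈ (P : Subgroup G), x * f * x⁻¹ = f ^ k)
    (htwo : ∃ s t : G, orderOf s = 2 ∧ orderOf t = 2 ∧ ¬ IsConj s t) : Nonempty (G ≃* Cfsg.Spor.M12) := by
  obtain ⟨D, rfl⟩ := exists_norm P hP f hfP hf hself hodd
  obtain ⟨K, hKP, k, hk, hT⟩ := D.exists_coded
  interval_cases k
  · exact m12_of_tab0 K hT (hKP ▸ hP) htwo
  · exact (K.no_simple hna (nc := nc1) (cp := cp1) (hT ▸ kill1)).elim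
  · exact (K.no_simple hna (nc := nc2) (cp := cp2) (hT ▸ kill2)).elim
  · exact (K.no_simple hna (nc := nc3) (cp := cp3) (hT ▸ kill3)).elim
  · exact (K.no_simple hna (nc := nc4) (cp := cp4) (hT ▸ kill4)).elim
  · exact (K.no_simple hna (nc := nc5) (cp := cp5) (hT ▸ kill5)).elim
  · exact (K.no_simple hna (nc := nc6) (cp := cp6) (hT ▸ kill6)).elim

end CfsgM12Eight
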