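import Cfsg.Agent.Lib.M12Eight.Checks
import Cfsg.Agent.Lib.M12Eight.Kill

/-!
A group of order 64 with a self-centralizing element of order 8 that is conjugate to all its generators is one of the
seven tables.
-/

set_option autoImplicit false
set_option linter.style.haveILetI false

namespace CfsgM12Eight

open Subgroup

variable {G : Type*} [Group G]

/-- The generators of the normalizer. -/
structure Norm (G : Type*) [Group G] where
  /-- the subgroup -/
  P : Sylow 2 G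
  /-- the element of order eight -/
  f : G
  /-- the first involution -/
  a : G
  /-- the second involution -/
  b : G
  /-- the exponent of the commutator -/
  u : ℕ
  card_P : Nat.card (P : Subgroup G) = 64
  f_mem : f ∈ (P : Subgroup G)
  a_mem : a ∈ (P : Subgroup G)
  b_mem : b ∈ (P : Subgroup G)
  of : orderOf f = 8
  a2 : a ^ 2 = 1
  b2 : b ^ 2 = 1
  af : a * f = f ^ 3 * a
  bf : b * f = f ^ 5 * b
  ba : b * a = f ^ u * a * b
  hu : u = 0 ∨ u = 4
  self : ∀ x ∈ (P : Subgroup G), x * f = f * x → ∃ i < 8, f ^ i = x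

theorem exists_norm (P : Sylow 2 G) (hP : Nat.card (P : Subgroup G) = 64) (f : G)
    (hfP : f ∈ (P : Subgroup G)) (hf : orderOf f = 8)
    (hself : ∀ x ∈ (P : Subgroup G), x * f = f * x → x ∈ zpowers f)
    (hodd : ∀ k ∈ ({3, 5, 7} : Set ℕ), ∃ x ∈ (P : Subgroup G), x * f * x⁻¹ = f ^ k) :
    ∃ D : Norm G, D.P = P := by
  have hfin : IsOfFinOrder f := orderOf_pos_iff.mp (by omega)
  have inF : ∀ x ∈ (P : Subgroup G), x * f = f * x → ∃ i < 8, f ^ i = x := fun x hx h => by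
    obtain ⟨n, rfl⟩ := (hfin.mem_powers_iff_mem_zpowers).mpr (hself x hx h)
    exact ⟨n % 8, Nat.mod_lt _ (by norm_num), by rw [← hf, pow_mod_orderOf]⟩
  have peq : ∀ {m n : ℕ}, f ^ m = f ^ n ↔ m % 8 = n % 8 := fun {m n} => by
    rw [pow_eq_pow_iff_modEq, hf]; rfl
  have semi : ∀ {x : G} {k : ℕ}, x * f = f ^ k * x → ∀ j, x * f ^ j = f ^ (k * j) * x := fun {x k} h j => by
    have : SemiconjBy x f (f ^ k) := h
    rw [pow_mul]
    exact (this.pow_right j).eq
  have sq : ∀ {x : G} {k s : ℕ}, x * f = f ^ k * x → x * x = f ^ s → (k * s) % 8 = s % 8 := fun {x k s} h hs => by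
    refine peq.mp (mul_right_cancel (b := x) ?_)
    rw [← semi h, ← hs, mul_assoc]
  -- the first involution
  obtain ⟨a0, ha0, ea0⟩ := hodd 3 (by simp)
  rw [mul_inv_eq_iff_eq_mul] at ea0
  obtain ⟨s, hs, es⟩ := inF (a0 * a0) (mul_mem ha0 ha0) (by
    rw [mul_assoc, ea0, ← mul_assoc, semi ea0, mul_assoc,
      show f ^ (3 * 3) = f by conv_rhs => rw [← pow_one f]
                              exact peq.mpr rfl])
  have hs' := sq ea0 es.symm
  set a := a0 * f ^ (s / 4) with ha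
  have haP : a ∈ (P : Subgroup G) := mul_mem ha0 (pow_mem hfP _)
  have af : a * f = f ^ 3 * a := by
    rw [ha, mul_assoc, ← pow_succ, pow_succ', ← mul_assoc, ea0, mul_assoc]
  have a2 : a ^ 2 = 1 := by
    have e := semi ea0 (s / 4)
    calc a ^ 2 = a0 * f ^ (s / 4) * a0 * f ^ (s / 4) := by rw [ha, pow_two, ← mul_assoc]
      _ = f ^ (3 * (s / 4)) * (a0 * a0) * f ^ (s / 4) := by rw [e, mul_assoc (f ^ (3 * (s / 4))) a0 a0]
      _ = f ^ (3 * (s / 4) + s + s / 4) := by rw [← es, pow_add, pow_add]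
      _ = 1 := by rw [← pow_zero f]; exact peq.mpr (by omega)
  -- the second involution
  obtain ⟨b0, hb0, eb0⟩ := hodd 5 (by simp)
  rw [mul_inv_eq_iff_eq_mul] at eb0
  obtain ⟨t, ht, et⟩ := inF (b0 * b0) (mul_mem hb0 hb0) (by
    rw [mul_assoc, eb0, ← mul_assoc, semi eb0, mul_assoc,
      show f ^ (5 * 5) = f by conv_rhs => rw [← pow_one f]
                              exact peq.mpr rfl])
  have ht' := sq eb0 et.symm
  set b := b0 * f ^ (t / 2) with hb
  have hbP : b ∈ (P : Subgroup G) := mul_mem hb0 (pow_mem hfP _)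
  have bf : b * f = f ^ 5 * b := by
    rw [hb, mul_assoc, ← pow_succ, pow_succ', ← mul_assoc, eb0, mul_assoc]
  have b2 : b ^ 2 = 1 := by
    have e := semi eb0 (t / 2)
    calc b ^ 2 = b0 * f ^ (t / 2) * b0 * f ^ (t / 2) := by rw [hb, pow_two, ← mul_assoc]
      _ = f ^ (5 * (t / 2)) * (b0 * b0) * f ^ (t / 2) := by rw [e, mul_assoc (f ^ (5 * (t / 2))) b0 b0]
      _ = f ^ (5 * (t / 2) + t + t / 2) := by rw [← et, pow_add, pow_add]
      _ = 1 := by rw [← pow_zero f]; exact peq.mpr (by omega)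
  have aa : a * a = 1 := by rw [← pow_two, a2]
  have bb : b * b = 1 := by rw [← pow_two, b2]
  -- the commutator
  obtain ⟨u, hu, eu⟩ := inF (b * a * b * a) (mul_mem (mul_mem (mul_mem hbP haP) hbP) haP) (by
    have e1 := semi af
    have e2 := semi bf
    calc b * a * b * a * f = b * a * b * (f ^ 3 * a) := by rw [mul_assoc _ a f, af]
      _ = b * a * (b * f ^ 3) * a := by simp only [mul_assoc]
      _ = b * (a * f ^ (5 * 3)) * b * a := by rw [e2]; simp only [mul_assoc]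
      _ = (b * f ^ (3 * (5 * 3))) * a * b * a := by rw [e1]; simp only [mul_assoc]
      _ = f ^ (5 * (3 * (5 * 3))) * b * a * b * a := by rw [e2]
      _ = f ^ 1 * b * a * b * a := by rw [peq.mpr (show 5 * (3 * (5 * 3)) % 8 = 1 % 8 by norm_num)]
      _ = f * (b * a * b * a) := by simp only [pow_one, mul_assoc])
  have ba : b * a = f ^ u * a * b := by
    rw [eu]
    simp only [mul_assoc]
    rw [← mul_assoc a a b, aa, one_mul, bb, mul_one]
  have hu2 : (3 * u + u) % 8 = 0 := by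
    refine (peq (n := 0)).mp ?_ |>.trans (Nat.zero_mod 8)
    have e : b * a * b = f ^ u * a := by rw [ba, mul_assoc, bb, mul_one]
    have e2 : (b * a * b) * (b * a * b) = 1 := by
      calc (b * a * b) * (b * a * b) = b * a * (b * b) * a * b := by simp only [mul_assoc]
        _ = b * (a * a) * b := by rw [bb, mul_one]; simp only [mul_assoc]
        _ = 1 := by rw [aa, mul_one, bb]
    rw [e] at e2
    rw [pow_zero, ← e2, show f ^ u * a * (f ^ u * a) = f ^ u * (a * f ^ u) * a by simp only [mul_assoc], semi af]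
    rw [mul_assoc, mul_assoc, aa, mul_one, ← pow_add, add_comm]
  have hu3 : (5 * u + u) % 8 = 0 := by
    refine (peq (n := 0)).mp ?_ |>.trans (Nat.zero_mod 8)
    have e : b * a * b = f ^ u * a := by rw [ba, mul_assoc, bb, mul_one]
    have e2 : b * (b * a * b) * b = a := by
      calc b * (b * a * b) * b = (b * b) * a * (b * b) := by simp only [mul_assoc]
        _ = a := by rw [bb, one_mul, mul_one]
    rw [e, show b * (f ^ u * a) * b = (b * f ^ u) * (a * b) by simp only [mul_assoc], semi bf] at e2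
    rw [mul_assoc, ← mul_assoc b a b, e] at e2
    refine mul_right_cancel (b := a) ?_
    rw [pow_zero, one_mul, pow_add, mul_assoc, e2]
  exact ⟨⟨P, f, a, b, u, hP, hfP, haP, hbP, hf, a2, b2, af, bf, ba, by omega, inF⟩, rfl⟩

theorem p3_eq {p : ℕ} : p3 p = if p = 0 then 1 else 3 := by
  rcases p with - | p <;> rfl

theorem p5_eq {q : ℕ} : p5 q = if q = 0 then 1 else 5 := by
  rcases q with - | q <;> rfl

theorem mulN_lt (u x y : ℕ) : mulN u x y < 32 := by
  unfold mulN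
  omega

theorem powN_lt (u x : ℕ) : ∀ k, powN u x k < 32
  | 0 => by simp [powN]
  | _ + 1 => mulN_lt _ _ _

namespace Norm

variable (D : Norm G)

/-- The element with a code. -/
def eN (c : ℕ) : G := D.f ^ (c / 4) * D.a ^ (c / 2 % 2) * D.b ^ (c % 2)

theorem eN_zero : D.eN 0 = 1 := by simp [eN]

theorem eN_mem (c : ℕ) : D.eN c ∈ (D.P : Subgroup G) :=
  mul_mem (mul_mem (pow_mem D.f_mem _) (pow_mem D.a_mem _)) (pow_mem D.b_mem _)

theorem peq {m n : ℕ} : D.f ^ m = D.f ^ n ↔ m % 8 = n % 8 := by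
  rw [pow_eq_pow_iff_modEq, D.of]; rfl

theorem a_pow_f {p : ℕ} (hp : p < 2) (j : ℕ) : D.a ^ p * D.f ^ j = D.f ^ (j * p3 p) * D.a ^ p := by
  interval_cases p
  · simp [p3_eq]
  · rw [pow_one, p3_eq, if_neg one_ne_zero, mul_comm, pow_mul]
    exact ((show SemiconjBy D.a D.f (D.f ^ 3) from D.af).pow_right j).eq

theorem b_pow_f {q : ℕ} (hq : q < 2) (j : ℕ) : D.b ^ q * D.f ^ j = D.f ^ (j * p5 q) * D.b ^ q := by
  interval_cases q
  · simp [p5_eq]
  · rw [pow_one, p5_eq, if_neg one_ne_zero, mul_comm, pow_mul]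
    exact ((show SemiconjBy D.b D.f (D.f ^ 5) from D.bf).pow_right j).eq

theorem b_pow_a {q r : ℕ} (hq : q < 2) (hr : r < 2) :
    D.b ^ q * D.a ^ r = D.f ^ (D.u * (q * r)) * D.a ^ r * D.b ^ q := by
  interval_cases q <;> interval_cases r <;> simp [D.ba]

theorem eN_mul (x y : ℕ) : D.eN (mulN D.u x y) = D.eN x * D.eN y := by
  set p := x / 2 % 2
  set q := x % 2
  set r := y / 2 % 2
  set w := y % 2
  set i := x / 4
  set j := y / 4
  have hc : ∀ k P Q : ℕ, D.eN (k % 8 * 4 + P % 2 * 2 + Q % 2) = D.f ^ k * D.a ^ P * D.b ^ Q := fun k P Q => by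
    rw [eN, show (k % 8 * 4 + P % 2 * 2 + Q % 2) / 4 = k % 8 by omega,
      show (k % 8 * 4 + P % 2 * 2 + Q % 2) / 2 % 2 = P % 2 by omega,
      show (k % 8 * 4 + P % 2 * 2 + Q % 2) % 2 = Q % 2 by omega, ← pow_eq_pow_mod P D.a2,
      ← pow_eq_pow_mod Q D.b2, D.peq.mpr (show k % 8 % 8 = k % 8 by omega)]
  have hp : p < 2 := Nat.mod_lt _ two_pos
  have hq : q < 2 := Nat.mod_lt _ two_pos
  have hr : r < 2 := Nat.mod_lt _ two_pos
  calc D.eN (mulN D.u x y)
      = D.f ^ (i + j * p5 q * p3 p + D.u * p3 p * (q * r)) * D.a ^ (p + r) * D.b ^ (q + w) := hc _ _ _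
    _ = D.f ^ i * (D.f ^ (j * p5 q * p3 p) * (D.f ^ (D.u * (q * r) * p3 p) * D.a ^ p)) * D.a ^ r *
        (D.b ^ q * D.b ^ w) := by
      rw [pow_add D.a, pow_add D.b, pow_add, pow_add, mul_right_comm D.u]
      simp only [mul_assoc]
    _ = D.f ^ i * D.a ^ p * (D.f ^ (j * p5 q) * (D.f ^ (D.u * (q * r)) * D.a ^ r * D.b ^ q)) * D.b ^ w := by
      rw [← D.a_pow_f hp (D.u * (q * r)), ← mul_assoc (D.f ^ (j * p5 q * p3 p)), ← D.a_pow_f hp (j * p5 q)]
      simp only [mul_assoc]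
    _ = D.f ^ i * D.a ^ p * (D.b ^ q * D.f ^ j * D.a ^ r) * D.b ^ w := by
      rw [← D.b_pow_a hq hr, ← mul_assoc (D.f ^ (j * p5 q)), ← D.b_pow_f hq]
    _ = D.eN x * D.eN y := by simp only [eN, mul_assoc]; rfl

theorem eN_pow (c : ℕ) : ∀ k, D.eN (powN D.u c k) = D.eN c ^ k
  | 0 => D.eN_zero.trans (pow_zero _).symm
  | k + 1 => by rw [powN, D.eN_mul, eN_pow c k, pow_succ]

theorem eN_conj (c : ℕ) : D.eN c * D.f = D.f ^ (p5 (c % 2) * p3 (c / 2 % 2)) * D.eN c := by
  have h1 := D.b_pow_f (Nat.mod_lt c two_pos) 1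
  have h2 := D.a_pow_f (Nat.mod_lt (c / 2) two_pos) (1 * p5 (c % 2))
  rw [pow_one] at h1
  calc D.eN c * D.f = D.f ^ (c / 4) * (D.a ^ (c / 2 % 2) * (D.b ^ (c % 2) * D.f)) := by simp only [eN, mul_assoc]
    _ = D.f ^ (c / 4) * (D.a ^ (c / 2 % 2) * D.f ^ (1 * p5 (c % 2))) * D.b ^ (c % 2) := by
      rw [h1]; simp only [mul_assoc]
    _ = _ := by
      rw [h2, one_mul, ← mul_assoc, ← pow_add, add_comm, pow_add]
      simp only [eN, mul_assoc]

theorem eN_inj {x y : ℕ} (hx : x < 32) (hy : y < 32) (h : D.eN x = D.eN y) : x = y := by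
  have hpq := D.eN_conj x
  rw [h, D.eN_conj y] at hpq
  have h8 := D.peq.mp (mul_right_cancel hpq)
  have h1 : x % 4 = y % 4 := by
    rw [p5_eq, p5_eq, p3_eq, p3_eq] at h8
    split_ifs at h8 <;> omega
  simp only [eN, show x / 2 % 2 = y / 2 % 2 by omega, show x % 2 = y % 2 by omega] at h
  have := D.peq.mp (mul_right_cancel (mul_right_cancel h))
  omega

theorem of_normalize {g : G} (hg : g ∈ (D.P : Subgroup G)) {k : ℕ} (hk : g * D.f = D.f ^ k * g) :
    ∃ c < 32, D.eN c = g := by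
  have hodd : k % 2 = 1 := by
    by_contra h
    have e : (g * D.f * g⁻¹) ^ 4 = 1 := by
      rw [hk, mul_inv_cancel_right, ← pow_mul, ← pow_zero D.f]
      exact D.peq.mpr (by omega)
    rw [conj_pow, conj_eq_one_iff, ← pow_zero D.f, D.peq] at e
    norm_num at e
  obtain ⟨c, hc, hcc⟩ : ∃ c < 4, (p5 (c % 2) * p3 (c / 2 % 2)) % 8 = k % 8 := by
    have : k % 8 = 1 ∨ k % 8 = 3 ∨ k % 8 = 5 ∨ k % 8 = 7 := by omega
    rcases this with h | h | h | h <;> rw [h]
    · exact ⟨0, by decide⟩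
    · exact ⟨2, by decide⟩
    · exact ⟨1, by decide⟩
    · exact ⟨3, by decide⟩
  obtain ⟨i, hi, hie⟩ := D.self ((D.eN c)⁻¹ * g) (mul_mem (inv_mem (D.eN_mem c)) hg) (by
    rw [mul_assoc, hk, ← D.peq.mpr hcc, ← mul_assoc, ← mul_assoc]
    congr 1
    rw [inv_mul_eq_iff_eq_mul, ← mul_assoc, D.eN_conj, mul_inv_cancel_right])
  refine ⟨mulN D.u c (4 * i), mulN_lt _ _ _, ?_⟩
  rw [D.eN_mul, show D.eN (4 * i) = D.f ^ i by
    simp [eN, show 4 * i / 2 % 2 = 0 by omega, show 4 * i % 2 = 0 by omega], hie, mul_inv_cancel_left]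

/-- The normalizer. -/
def N [Finite G] : Subgroup G :=
  subgroupOfIdempotent {g | ∃ c < 32, D.eN c = g} ⟨1, 0, by norm_num, D.eN_zero⟩ (by
    ext g
    constructor
    · rintro ⟨_, ⟨x, hx, rfl⟩, _, ⟨y, hy, rfl⟩, rfl⟩
      exact ⟨_, mulN_lt _ _ _, D.eN_mul x y⟩
    · rintro ⟨c, hc, rfl⟩
      exact ⟨_, ⟨c, hc, rfl⟩, 1, ⟨0, by norm_num, D.eN_zero⟩, mul_one _⟩)

theorem mem_N [Finite G] {g : G} : g ∈ D.N ↔ ∃ c < 32, D.eN c = g := Iff.rfl

theorem N_le [Finite G] : D.N ≤ (D.P : Subgroup G) := by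
  rintro g ⟨c, -, rfl⟩
  exact D.eN_mem c

theorem card_N [Finite G] : Nat.card D.N = 32 := by
  let e : Fin 32 → D.N := fun c => ⟨D.eN c, c, c.2, rfl⟩
  rw [← Nat.card_eq_of_bijective e ⟨fun x y h => Fin.ext (D.eN_inj x.2 y.2 (congrArg Subtype.val h)), ?_⟩,
    Nat.card_fin]
  rintro ⟨g, c, hc, rfl⟩
  exact ⟨⟨c, hc⟩, rfl⟩

theorem index_N [Finite G] : (D.N.subgroupOf (D.P : Subgroup G)).index = 2 := by
  have h := (D.N.subgroupOf (D.P : Subgroup G)).card_mul_index
  rw [Nat.card_congr (subgroupOfEquivOfLe D.N_le).toEquiv, D.card_N, D.card_P] at h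
  omega

/-- The code of a product in the extension. -/
theorem mulP_lt (u A B n0 x y : ℕ) : mulP u A B n0 x y < 64 := by
  unfold mulP
  split_ifs
  all_goals
    first
    | (have := mulN_lt u x y; omega)
    | (have := mulN_lt u x (y - 32); omega)
    | (have := mulN_lt u (x - 32) (alN u A B y); omega)
    | (have := mulN_lt u (mulN u (x - 32) (alN u A B (y - 32))) n0; omega)

/-- The group has coordinates in one of the tables. -/
theorem exists_coded [Finite G] : ∃ K : Coded G, K.P = D.P ∧ ∃ k < 7, K.T = tabOf k := by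
  set P := (D.P : Subgroup G) with hPdef
  have hmul : ∀ {a b : G}, a ∈ P → b ∈ P → (a * b ∈ D.N ↔ (a ∈ D.N ↔ b ∈ D.N)) := fun {a b} ha hb => by
    simpa [mem_subgroupOf] using mul_mem_iff_of_index_two D.index_N (a := ⟨a, ha⟩) (b := ⟨b, hb⟩)
  have hsq : ∀ {a : G}, a ∈ P → a * a ∈ D.N := fun {a} ha => (hmul ha ha).mpr Iff.rfl
  obtain ⟨x, hxP, hxN⟩ : ∃ x ∈ P, x ∉ D.N := by
    by_contra h
    push Not at h
    have := card_le_of_le (show P ≤ D.N from h)
    rw [D.card_N, D.card_P] at this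
    omega
  have hconj : ∀ {x n : G}, x ∈ P → n ∈ D.N → x * n * x⁻¹ ∈ D.N := fun {x n} hx hn => by
    haveI := normal_of_index_eq_two D.index_N
    exact mem_subgroupOf.mp (this.conj_mem ⟨n, D.N_le hn⟩ (mem_subgroupOf.mpr hn) ⟨x, hx⟩)
  obtain ⟨c, hc, ec⟩ := hconj hxP (n := D.f) ⟨4, by norm_num, by simp [eN]⟩
  have hu : D.u ∈ [0, 4] := by simpa using D.hu
  -- the conjugate is outside the cyclic group
  have hc4 : c % 4 ≠ 0 := fun h => hxN <| D.mem_N.mpr <| D.of_normalize hxP (k := c / 4) (by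
    rw [← mul_inv_eq_iff_eq_mul, ← ec]
    simp [eN, show c / 2 % 2 = 0 by omega, show c % 2 = 0 by omega])
  have hc8 : powN D.u c 4 ≠ 0 := fun h => by
    have e := D.eN_pow c 4
    rw [h, D.eN_zero, ec, conj_pow, eq_comm, conj_eq_one_iff, ← pow_zero D.f, D.peq] at e
    norm_num at e
  have hnm := List.all_eq_true.mp (List.all_eq_true.mp norm_move D.u hu) c (List.mem_range.mpr hc)
  simp only [Bool.or_eq_true, Nat.beq_eq, List.any_eq_true] at hnm
  obtain ⟨n, hn, k, hk, hnk⟩ := hnm.resolve_left (not_or.mpr ⟨hc4, hc8⟩)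
  obtain ⟨y, hy4, hy⟩ : ∃ y < 4, (p5 (y % 2) * p3 (y / 2 % 2)) % 8 = k % 8 := by
    simp only [List.mem_cons, List.not_mem_nil, or_false] at hk
    rcases hk with rfl | rfl | rfl | rfl
    · exact ⟨0, by decide⟩
    · exact ⟨2, by decide⟩
    · exact ⟨1, by decide⟩
    · exact ⟨3, by decide⟩
  set X := D.eN n * x * D.eN y with hXdef
  have hX : X ∈ P := mul_mem (mul_mem (D.eN_mem n) hxP) (D.eN_mem y)
  have hn32 : n < 32 := List.mem_range.mp hn
  have hXN : X ∉ D.N := fun h => hxN <| by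
    have h1 : D.eN n ∈ D.N := ⟨n, hn32, rfl⟩
    have h2 : D.eN y ∈ D.N := ⟨y, by omega, rfl⟩
    have := mul_mem (mul_mem (inv_mem h1) h) (inv_mem h2)
    simpa [hXdef, mul_assoc] using this
  have e5 : X * D.f * X⁻¹ = D.eN 5 := by
    have e := congrArg D.eN hnk
    rw [D.eN_mul, D.eN_mul, D.eN_pow, ec, conj_pow] at e
    calc X * D.f * X⁻¹ = D.eN n * x * (D.eN y * D.f * (D.eN y)⁻¹) * x⁻¹ * (D.eN n)⁻¹ := by
          simp only [hXdef, mul_inv_rev, mul_assoc]
      _ = D.eN n * (x * D.f ^ k * x⁻¹) * (D.eN n)⁻¹ := by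
          rw [D.eN_conj, mul_inv_cancel_right, D.peq.mpr hy]; simp only [mul_assoc]
      _ = D.eN 5 := by rw [e, mul_inv_cancel_right]
  obtain ⟨A, hA, eA⟩ := hconj hX (n := D.a) ⟨2, by norm_num, by simp [eN]⟩
  obtain ⟨B, hB, eB⟩ := hconj hX (n := D.b) ⟨1, by norm_num, by simp [eN]⟩
  obtain ⟨n0, hn0, en0⟩ := hsq hX
  have hal : ∀ m, D.eN (alN D.u A B m) = X * D.eN m * X⁻¹ := fun m => by
    rw [alN, D.eN_mul, D.eN_mul, D.eN_pow, D.eN_pow, D.eN_pow, eA, eB, ← e5, conj_pow, conj_pow, conj_pow]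
    simp only [eN, mul_assoc, inv_mul_cancel_left]
  have hal32 : ∀ m, alN D.u A B m < 32 := fun m => mulN_lt _ _ _
  have hA' : validA D.u A = true := by
    rw [validA, Bool.and_eq_true, Nat.beq_eq, Nat.beq_eq]
    have aa : D.a * D.a = 1 := (pow_two _).symm.trans D.a2
    refine ⟨D.eN_inj (mulN_lt _ _ _) (by norm_num) ?_, D.eN_inj (mulN_lt _ _ _) (powN_lt _ _ _) ?_⟩
    · rw [D.eN_mul, D.eN_zero, eA, conj_mul, aa, mul_one, mul_inv_cancel]
    · rw [D.eN_mul, D.eN_mul, D.eN_pow, eA, ← e5, conj_pow, conj_mul, conj_mul, D.af, mul_assoc (D.f ^ 3), aa,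
        mul_one]
  have hB' : validB D.u B = true := by
    rw [validB, Bool.and_eq_true, Nat.beq_eq, Nat.beq_eq]
    have bb : D.b * D.b = 1 := (pow_two _).symm.trans D.b2
    refine ⟨D.eN_inj (mulN_lt _ _ _) (by norm_num) ?_, D.eN_inj (mulN_lt _ _ _) (powN_lt _ _ _) ?_⟩
    · rw [D.eN_mul, D.eN_zero, eB, conj_mul, bb, mul_one, mul_inv_cancel]
    · rw [D.eN_mul, D.eN_mul, D.eN_pow, eB, ← e5, conj_pow, conj_mul, conj_mul, D.bf, mul_assoc (D.f ^ 5), bb,
        mul_one]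
  have hBA : Nat.beq (mulN D.u B A) (mulN D.u (mulN D.u (powN D.u 5 D.u) A) B) = true := by
    rw [Nat.beq_eq]
    refine D.eN_inj (mulN_lt _ _ _) (mulN_lt _ _ _) ?_
    rw [D.eN_mul, D.eN_mul, D.eN_mul, D.eN_pow, eA, eB, ← e5, conj_pow, conj_mul, conj_mul, conj_mul, D.ba]
  have hN' : validN D.u A B n0 = true := by
    rw [validN, Bool.and_eq_true, Nat.beq_eq, List.all_eq_true]
    refine ⟨D.eN_inj (hal32 _) hn0 ?_, fun g _ => Nat.beq_eq.mpr (D.eN_inj (mulN_lt _ _ _) (mulN_lt _ _ _) ?_)⟩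
    · rw [hal, en0]; simp only [mul_assoc, mul_inv_cancel, mul_one]
    · rw [D.eN_mul, D.eN_mul, hal, hal, en0]; simp only [mul_assoc, inv_mul_cancel_left, inv_mul_cancel, mul_one]
  have h := List.all_eq_true.mp choices_complete D.u hu
  have h := List.all_eq_true.mp h A (List.mem_range.mpr hA)
  simp only [hA', Bool.not_true, Bool.false_or] at h
  have h := List.all_eq_true.mp h B (List.mem_range.mpr hB)
  simp only [hB', hBA, Bool.not_true, Bool.false_or] at h
  have h := List.all_eq_true.mp h n0 (List.mem_range.mpr hn0)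
  simp only [hN', Bool.not_true, Bool.false_or, List.any_eq_true, Bool.and_eq_true, Nat.beq_eq] at h
  obtain ⟨ch, hch, ⟨⟨hcu, hcA⟩, hcB⟩, hcn⟩ := h
  have hiso := List.all_eq_true.mp choices_iso ch hch
  simp only [isoOK, Bool.and_eq_true, List.all_eq_true, List.any_eq_true, List.mem_range, Nat.beq_eq, Nat.blt_eq,
    force_eq] at hiso
  obtain ⟨⟨hk7, hsurj⟩, hhom⟩ := hiso
  rw [hcu, hcA, hcB, hcn] at hhom
  let eP : ℕ → G := fun z => if z < 32 then D.eN z else D.eN (z - 32) * X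
  have hePmem : ∀ z < 64, eP z ∈ P := fun z _ => by
    dsimp only [eP]
    split
    · exact D.eN_mem z
    · exact mul_mem (D.eN_mem _) hX
  have hePmul : ∀ y z, eP (mulP D.u A B n0 y z) = eP y * eP z := fun y z => by
    have hlt := fun a b => mulN_lt D.u a b
    have hge : ∀ a b, ¬ mulN D.u a b + 32 < 32 := fun a b => by omega
    unfold mulP
    split_ifs with hy hz hz <;> simp only [eP, hy, hz, if_true, if_false, hlt, hge, Nat.add_sub_cancel, D.eN_mul, hal,
      en0] <;> simp only [mul_assoc, inv_mul_cancel_left, inv_mul_cancel, mul_one]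
  have hcdlt : ∀ y, ch.cd y < 64 := fun y => Nat.mod_lt _ (by norm_num)
  have hePsurj : ∀ g ∈ P, ∃ z < 64, eP z = g := fun g hg => by
    by_cases h : g ∈ D.N
    · obtain ⟨z, hz, rfl⟩ := h
      exact ⟨z, by omega, if_pos hz⟩
    · obtain ⟨z, hz, ez⟩ : g * X⁻¹ ∈ D.N :=
        (hmul hg (inv_mem hX)).mpr ⟨fun e => absurd e h, fun e => absurd (by simpa using inv_mem e) hXN⟩
      refine ⟨z + 32, by omega, ?_⟩
      simp only [eP, show ¬ z + 32 < 32 by omega, if_false, Nat.add_sub_cancel, ez, inv_mul_cancel_right]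
  have hePinj : ∀ {y z}, y < 64 → z < 64 → eP y = eP z → y = z := fun {y z} hy hz e => by
    have hN : ∀ c < 32, D.eN c ∈ D.N := fun c hc => ⟨c, hc, rfl⟩
    have mix : ∀ a b : ℕ, a < 32 → b < 32 → D.eN a ≠ D.eN b * X := fun a b ha hb e => hXN <| by
      rw [show X = (D.eN b)⁻¹ * D.eN a by rw [e, inv_mul_cancel_left]]
      exact mul_mem (inv_mem (hN b hb)) (hN a ha)
    dsimp only [eP] at e
    split_ifs at e with h1 h2 h2
    · exact D.eN_inj h1 h2 e
    · exact absurd e (mix _ _ h1 (by omega))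
    · exact absurd e.symm (mix _ _ h2 (by omega))
    · have := D.eN_inj (by omega) (by omega) (mul_right_cancel e)
      omega
  have hcdinj : ∀ {y z}, y < 64 → z < 64 → ch.cd y = ch.cd z → y = z := by
    let σ : Fin 64 → Fin 64 := fun y => ⟨ch.cd y, hcdlt y⟩
    have hσ : Function.Surjective σ := fun z => by
      obtain ⟨y, hy, e⟩ := hsurj z z.2
      exact ⟨⟨y, hy⟩, Fin.ext e⟩
    intro y z hy hz e
    exact congrArg Fin.val ((Finite.injective_iff_surjective.mpr hσ) (a₁ := ⟨y, hy⟩) (a₂ := ⟨z, hz⟩) (Fin.ext e))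
  exact ⟨
    { P := D.P
      T := tabOf ch.k
      e := fun y => eP (ch.cd y)
      mem := fun {y} _ => hePmem _ (hcdlt y)
      surj := fun {g} hg => by
        obtain ⟨z, hz, rfl⟩ := hePsurj g hg
        obtain ⟨y, hy, e⟩ := hsurj z hz
        exact ⟨y, hy, by rw [e]⟩
      inj := fun {y z} hy hz e => hcdinj hy hz (hePinj (hcdlt y) (hcdlt z) e)
      map_mul := fun {y z} hy hz => by rw [hhom y hy z hz, hePmul] },
    rfl, ch.k, hk7, rfl⟩

end Norm

end CfsgM12Eight
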